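import Groth.Agent.EtAdic.K833.FibSeq
import Groth.Agent.EtAdic.K833.EffUnit
import Groth.Agent.EtAdic.K833.AcycDesc
import Groth.Agent.Vancyc.H694.BCTool
import Groth.Agent.EtpbcB.BCMorField
import Groth.Agent.FlatA.EtaleSections
import Groth.Agent.Sga7.H754.HDer
import Groth.Agent.Fdesc.GeomAlgClosed

/-!
# Higher direct images of constant sheaves along homomorphisms of group varieties

For a smooth surjective homomorphism `π : G ⟶ Q` of group schemes with connected kernel `K` over an algebraically
closed field, the sheaves `R^q π_* M` are constant, and their formation commutes with the base change along the unit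
of `Q`.
-/

set_option autoImplicit false
universe u

open CategoryTheory CategoryTheory.Limits MonoidalCategory CartesianMonoidalCategory MonObj GrpObj AlgebraicGeometry
attribute [local instance] HasDerivedCategory.standard

namespace K522.LHGroup

open Groth.Agent.Sga4h Groth.Agent.Sga5.H855 Groth.Agent.Sga7.H754.HDer Groth.Agent.Etrest.DEtPush

section const

variable {X Y : Scheme.{u}} (π : X ⟶ Y)

theorem isIso_unit_iff_of_iso {F G : EtCoh.Ab Y} (e : F ≅ G) :
    IsIso ((EtCoh.pullPushAdj π).unit.app F) ↔ IsIso ((EtCoh.pullPushAdj π).unit.app G) :=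
  NatTrans.isIso_app_iff_of_iso _ e

/-- If `π` is smooth, surjective and geometrically connected and `π^* R` is constant, then the unit `R ⟶ π_* π^* R`
is an isomorphism. -/
theorem isIso_unit_of_pull [Smooth π] [Surjective π] [GeometricallyConnected π]
    [IsLocallyNoetherian Y] (R : EtCoh.Ab Y) (N : Type) [AddCommGroup N]
    (e : (EtCoh.pull π).obj R ≅ EtCoh.const X N) :
    IsIso ((EtCoh.pullPushAdj π).unit.app R) := by
  refine EtUnit.isIso_of_family _ fun y => ?_
  obtain ⟨U, c, x, hc, hx, σ, hσ⟩ :=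
    Groth.Agent.FlatA.EtaleSections.exists_section π y (Surjective.surj (f := π) y)
  refine ⟨U, c, x, hx, ?_⟩
  have h : IsPullback (pullback.fst π c) (pullback.snd π c) π c := IsPullback.of_hasPullback π c
  refine (EtUnit.isIso_unit_iff h.w R (EtUnit.isIso_baseChange0_of_etale h _)).2 ?_
  have e' : (EtCoh.pull c).obj R ≅ EtCoh.const U N :=
    (EtCore.pullCongr hσ.symm).app R ≪≫ (EtCore.pullComp σ π).app R ≪≫
      (EtCoh.pull σ).mapIso e ≪≫ EtCore.pullConst σ N
  have hU : IsLocallyNoetherian U := LocallyOfFiniteType.isLocallyNoetherian c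
  rw [isIso_unit_iff_of_iso _ e']
  exact K833.EffUnit.isIso_unit (pullback.snd π c) N

/-- A sheaf which becomes constant on a smooth, surjective, geometrically connected cover is constant. -/
theorem nonempty_iso_const [Smooth π] [Surjective π] [GeometricallyConnected π]
    [IsLocallyNoetherian Y] (R : EtCoh.Ab Y) (N : Type) [AddCommGroup N]
    (e : (EtCoh.pull π).obj R ≅ EtCoh.const X N) : Nonempty (EtCoh.const Y N ≅ R) := by
  have h1 := isIso_unit_of_pull π R N e
  have h2 : IsIso ((EtCoh.pullPushAdj π).unit.app (EtCoh.const Y N)) :=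
    K833.EffUnit.isIso_unit π N
  exact ⟨asIso ((EtCoh.pullPushAdj π).unit.app (EtCoh.const Y N)) ≪≫
    (EtCoh.push π).mapIso (EtCore.pullConst π N ≪≫ e.symm) ≪≫
    (asIso ((EtCoh.pullPushAdj π).unit.app R)).symm⟩

end const

section group

variable {k : Type u} [Field k]

/-- A surjective homomorphism with connected kernel over an algebraically closed field is geometrically connected. -/
theorem geometricallyConnected [IsAlgClosed k] {K G Q : Over (Spec (CommRingCat.of k))} [GrpObj G]
    [GrpObj Q] (i : K ⟶ G) (π : G ⟶ Q) [IsMonHom π] (hker : AlgGrp.IsKernel i π)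
    [Surjective π.left] [ConnectedSpace K.left] : GeometricallyConnected π.left := by
  obtain ⟨d, hd⟩ := K833.FibSeq.exists_square i π hker
  have h1 : GeometricallyConnected K.hom :=
    Groth.Agent.Fdesc.GeomAlgClosed.geometricallyConnected_of_connectedSpace K.hom
  have h2 : GeometricallyConnected (pullback.fst π.left π.left) :=
    MorphismProperty.of_isPullback hd.flip h1
  exact K833.EffUnit.geometricallyConnected_of_surjective
    (IsPullback.of_hasPullback π.left π.left).flip

variable {m : ℕ} (hm : (m : k) ≠ 0)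

include hm in
/-- The higher direct images of a constant sheaf along a smooth surjective homomorphism with connected kernel are
constant. -/
theorem exists_const [IsAlgClosed k] {K G Q : Over (Spec (CommRingCat.of k))} [GrpObj G] [GrpObj Q]
    (i : K ⟶ G) (π : G ⟶ Q) [IsMonHom π] (hker : AlgGrp.IsKernel i π) [Smooth π.left]
    [Surjective π.left] [QuasiCompact π.left] [QuasiSeparated π.left] [LocallyOfFiniteType K.hom]
    [QuasiCompact K.hom] [ConnectedSpace K.left] [LocallyOfFiniteType Q.hom]
    (M : Type) [AddCommGroup M] [Finite M] (hM : ∀ x : M, m • x = 0) (q : ℕ) :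
    ∃ (N : Type) (_ : AddCommGroup N) (_ : Finite N), (∀ x : N, m • x = 0) ∧
      Nonempty (N ≃ EtCoh.H K.left (EtCoh.const K.left M) q) ∧
      Nonempty (EtCoh.const Q.left N ≅ (EtCoh.Rpush π.left q).obj (EtCoh.const G.left M)) := by
  have hQ : IsLocallyNoetherian Q.left := LocallyOfFiniteType.isLocallyNoetherian Q.hom
  have hgc := geometricallyConnected i π hker
  obtain ⟨e1⟩ := K833.FibSeq.exists_iso hm i π hker M hM q
  obtain ⟨N, i1, i2, hN, h3, h4⟩ := K833.FieldRpush.exists_const hm K.hom (EtCoh.const K.left M)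
    (Groth.Agent.Etrest.ConstBasic.isConstructible_const _ M)
    (Groth.Agent.Etrest.ConstBasic.killedBy_const _ M m hM) q
  obtain ⟨e2⟩ := h4 (IsPullback.of_id_snd (f := K.hom)).flip
  refine ⟨N, i1, i2, hN, h3, ?_⟩
  exact nonempty_iso_const π.left _ N (e1 ≪≫ (EtCoh.pull G.hom).mapIso
    ((EtCoh.Rpush K.hom q).mapIso (EtCore.pullConst _ M).symm ≪≫ e2.symm) ≪≫ EtCore.pullConst G.hom N)

/-- Inverse images of constant sheaves in the derived category. -/
noncomputable def pullS0 (M : Type) [AddCommGroup M] {X X' : Scheme.{u}} (g : X' ⟶ X) :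
    (pullD g).obj (S0 (EtCoh.const X M)) ≅ S0 (EtCoh.const X' M) :=
  ((EtCoh.pull g).mapDerivedCategorySingleFunctor 0).app _ ≪≫
    (DerivedCategory.singleFunctor (EtCoh.Ab X') 0).mapIso (EtCore.pullConst g M)

theorem bc_congr {X Y X' Y' : Scheme.{u}} {f : X ⟶ Y} {g g₂ : Y' ⟶ Y} {f' : X' ⟶ Y'}
    {g' g'₂ : X' ⟶ X} (hg : g = g₂) (hg' : g' = g'₂) {w : g' ≫ f = f' ≫ g}
    (w₂ : g'₂ ≫ f = f' ≫ g₂) {L : DCoh.DEt X} (h : GSq.BC w L) : GSq.BC w₂ L := by
  subst hg hg'
  exact h

include hm in
/-- Base change of the constant sheaf along the unit section for a smooth homomorphism of group schemes. -/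
theorem bc {K G Q : Over (Spec (CommRingCat.of k))} [GrpObj G] [GrpObj Q]
    (i : K ⟶ G) (π : G ⟶ Q) [IsMonHom π] (hker : AlgGrp.IsKernel i π) [Smooth π.left]
    [QuasiCompact π.left] [QuasiSeparated π.left] [LocallyOfFiniteType K.hom] [QuasiCompact K.hom]
    (M : Type) [AddCommGroup M] [Finite M] (hM : ∀ x : M, m • x = 0)
    (y : Spec (CommRingCat.of k) ⟶ Q.left) (hy : y = η[Q].left)
    (w : i.left ≫ π.left = K.hom ≫ y) : GSq.BC w (S0 (EtCoh.const G.left M)) := by
  have hm0 : 0 < m := Nat.pos_of_ne_zero fun h => hm (by rw [h, Nat.cast_zero])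
  obtain ⟨d, hd⟩ := K833.FibSeq.exists_square i π hker
  let a : Spec (CommRingCat.of k) ⟶ G.left := η[G].left
  have ha : a ≫ G.hom = 𝟙 _ := Over.w η[G]
  have hay : a ≫ π.left = y := by
    rw [hy, ← IsMonHom.one_hom π, Over.comp_left]
  let j : K.left ⟶ pullback π.left π.left := pullback.lift (K.hom ≫ a) i.left (by
    rw [Category.assoc, hay, w])
  have hj1 : j ≫ pullback.fst π.left π.left = K.hom ≫ a := pullback.lift_fst _ _ _
  have hj2 : j ≫ pullback.snd π.left π.left = i.left := pullback.lift_snd _ _ _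
  have h1 : IsPullback (pullback.snd π.left π.left) (pullback.fst π.left π.left) π.left π.left :=
    (IsPullback.of_hasPullback π.left π.left).flip
  have hK : IsPullback i.left K.hom π.left y := by
    have h := hker.map (Over.forget _)
    have h2 : (toUnit K).left = K.hom := by
      have := Over.w (toUnit K)
      exact (Category.comp_id _).symm.trans this
    have h' : IsPullback i.left (toUnit K).left π.left η[Q].left := h
    rw [h2, ← hy] at h'
    exact h'
  have h12 : IsPullback (j ≫ pullback.snd π.left π.left) K.hom π.left (a ≫ π.left) := by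
    rw [hj2, hay]
    exact hK
  have h2 : IsPullback j K.hom (pullback.fst π.left π.left) a := IsPullback.of_right h12 hj1 h1
  have h23 : IsPullback (j ≫ d) K.hom K.hom (a ≫ G.hom) := h2.paste_horiz hd.flip
  have hiso : IsIso (a ≫ G.hom) := by rw [ha]; infer_instance
  have hiso' : IsIso (j ≫ d) := h23.isIso_fst_of_isIso
  have b1 : GSq.BC h1.w (S0 (EtCoh.const G.left M)) :=
    Groth.Agent.Vancyc.H694.BCTool.bc_single h1
      (Groth.Agent.EtpbcB.BCU.UBC.of_smooth (S := Spec (CommRingCat.of k)) Q.hom π.left).bcMor hm0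
      (K833.FibSeq.isUnit_cast hm (𝟙 _)) _ (Groth.Agent.Etrest.ConstBasic.killedBy_const _ M m hM)
  have b3 : GSq.BC hd.flip.w (S0 (EtCoh.const K.left M)) :=
    K833.FieldBC.bc hm K.hom G.hom hd.flip _ (Groth.Agent.Etrest.ConstBasic.isConstructible_const _ M)
      (Groth.Agent.Etrest.ConstBasic.killedBy_const _ M m hM)
  have b23 : GSq.BC h23.w (S0 (EtCoh.const K.left M)) := by
    have i1 := GSq.isEquivalence_pull_of_isIso (a ≫ G.hom)
    have i2 := GSq.isEquivalence_pull_of_isIso (j ≫ d)
    exact GSq.bc_of_isEquivalence _ _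
  have b2 : GSq.BC h2.w (S0 (EtCoh.const (pullback π.left π.left) M)) :=
    (GSq.BC.of_hcomp b3 b23).of_iso (pullS0 M d)
  have b12 : GSq.BC h12.w (S0 (EtCoh.const G.left M)) :=
    GSq.BC.hcomp _ b1 (b2.of_iso (pullS0 M _).symm)
  exact bc_congr hay hj2 w b12

/-- A flat surjective quasi-compact homomorphism with smooth kernel is smooth. -/
theorem smooth_of_kernel {K G Q : Over (Spec (CommRingCat.of k))} [GrpObj G] [GrpObj Q]
    (i : K ⟶ G) (π : G ⟶ Q) [IsMonHom π] (hker : AlgGrp.IsKernel i π) [Smooth K.hom]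
    [Flat π.left] [Surjective π.left] [QuasiCompact π.left] : Smooth π.left := by
  obtain ⟨d, hd⟩ := K833.FibSeq.exists_square i π hker
  have h1 : Smooth (pullback.fst π.left π.left) :=
    MorphismProperty.of_isPullback (P := @Smooth) hd.flip inferInstance
  have h2 : Smooth (pullback.snd π.left π.left) := by
    rw [← pullbackSymmetry_hom_comp_fst]
    infer_instance
  exact MorphismProperty.of_pullback_snd_of_descendsAlong
    (Q := @Surjective ⊓ @Flat ⊓ @QuasiCompact) (g := π.left)
    ⟨⟨inferInstance, inferInstance⟩, inferInstance⟩ h2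

/-- **The two sheaf-theoretic inputs of Leray–Hirsch** for an exact sequence `1 ⟶ K ⟶ G ⟶ Q ⟶ 1` of connected group
varieties over an algebraically closed field: base change of the constant sheaves `ℤ/ℓ^ν` along the unit section of
`Q`, and constancy of the higher direct images. -/
theorem inputs [IsAlgClosed k] (ℓ : ℕ) (hℓ : (ℓ : k) ≠ 0)
    (K G Q : Over (Spec (CommRingCat.of k))) [GrpObj G] [GrpObj Q]
    [Smooth K.hom] [QuasiCompact K.hom] [ConnectedSpace K.left] [LocallyOfFiniteType G.hom]
    [QuasiCompact G.hom] [LocallyOfFiniteType Q.hom] [QuasiCompact Q.hom]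
    (i : K ⟶ G) (π : G ⟶ Q) [IsMonHom π] [Flat π.left] [Surjective π.left]
    (hker : AlgGrp.IsKernel i π) (y : Spec (CommRingCat.of k) ⟶ Q.left) (hy : y = η[Q].left)
    (w : i.left ≫ π.left = K.hom ≫ y) :
    (∀ ν : ℕ, GSq.BC w (S0 (EtCoh.const G.left (ZMod (ℓ ^ ν))))) ∧
      ∀ ν t : ℕ, ∃ (M : Type) (_ : AddCommGroup M) (_ : Finite M),
        Nonempty (M ≃ EtCoh.H K.left (EtCoh.const K.left (ZMod (ℓ ^ ν))) t) ∧
        Nonempty (EtCoh.const Q.left M ≅
          (EtCoh.Rpush π.left t).obj (EtCoh.const G.left (ZMod (ℓ ^ ν)))) := by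
  have hQ : IsLocallyNoetherian Q.left := LocallyOfFiniteType.isLocallyNoetherian Q.hom
  have hG : IsLocallyNoetherian G.left := LocallyOfFiniteType.isLocallyNoetherian G.hom
  have hqc : QuasiCompact π.left := by
    have : QuasiCompact (π.left ≫ Q.hom) := by rw [Over.w]; infer_instance
    exact QuasiCompact.of_comp π.left Q.hom
  have hqs : QuasiSeparated π.left := inferInstance
  have hsm := smooth_of_kernel i π hker
  have hl0 : ℓ ≠ 0 := fun h => hℓ (by rw [h, Nat.cast_zero])
  have hp : ∀ ν : ℕ, ((ℓ ^ ν : ℕ) : k) ≠ 0 := fun ν => by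
    rw [Nat.cast_pow]
    exact pow_ne_zero _ hℓ
  have hk : ∀ (ν : ℕ) (x : ZMod (ℓ ^ ν)), (ℓ ^ ν) • x = 0 := fun ν x => by
    rw [nsmul_eq_mul, ZMod.natCast_self, zero_mul]
  refine ⟨fun ν => ?_, fun ν t => ?_⟩
  · have : NeZero (ℓ ^ ν) := ⟨pow_ne_zero _ hl0⟩
    exact bc (hp ν) i π hker (ZMod (ℓ ^ ν)) (hk ν) y hy w
  · have : NeZero (ℓ ^ ν) := ⟨pow_ne_zero _ hl0⟩
    obtain ⟨N, i1, i2, -, h3, h4⟩ := exists_const (hp ν) i π hker (ZMod (ℓ ^ ν)) (hk ν) t
    exact ⟨N, i1, i2, h3, h4⟩

end group

end K522.LHGroup
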