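import Groth.Agent.EtAdic.K833.EffMain
import Groth.Agent.EtAdic.K833.EffFib
import Groth.Agent.EtAdic.K833.TransTriv
import Groth.Agent.EtAdic.K833.ConnNhd
import Groth.Agent.EtAdic.K522.LHGroup

/-!
# Exactness in degree one for an extension of group varieties

Let `1 ⟶ K ⟶ G ⟶ Q ⟶ 1` be an exact sequence of connected group varieties over an algebraically closed field. A class
in `H^1(G, M)`, `M` finite of order prime to the characteristic, whose restriction to `K` vanishes, comes from `Q`.
-/

set_option autoImplicit false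
universe u

open CategoryTheory CategoryTheory.Limits MonoidalCategory CartesianMonoidalCategory MonObj GrpObj AlgebraicGeometry
open scoped Groth.Agent.Etcore.EtInst
open Groth.Agent.Etcore.EtInst
attribute [local instance] HasDerivedCategory.standard

namespace K522.ExactOne

open Groth.Agent.Etcore.HpullCalc Groth.Agent.Etcore.PullCoh Groth.Agent.Etcore.HQ
  Groth.Agent.Etcore.HC Groth.Agent.Etcore K833.IsogGal

attribute [local instance] pfl

variable {k : Type u} [Field k]

theorem toUnit_left (T : Over (Spec (CommRingCat.of k))) : (toUnit T).left = T.hom := by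
  have := Over.w (toUnit T)
  exact (Category.comp_id _).symm.trans this

/-- The fibre of a homomorphism over the image of a rational point is a translate of the kernel. -/
theorem isPullback_translate [IsAlgClosed k] {K G Q : Over (Spec (CommRingCat.of k))} [GrpObj G]
    [GrpObj Q] (i : K ⟶ G) (π : G ⟶ Q) [IsMonHom π] (hker : AlgGrp.IsKernel i π)
    (g : 𝟙_ (Over (Spec (CommRingCat.of k))) ⟶ G) :
    IsPullback (i ≫ rt g) (toUnit K) π (g ≫ π) := by
  have hinv : ∀ {H : Over (Spec (CommRingCat.of k))} [GrpObj H]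
      (h : 𝟙_ (Over (Spec (CommRingCat.of k))) ⟶ H), IsIso (rt h) := by
    intro H _ h
    have h1 : ∀ a : 𝟙_ (Over (Spec (CommRingCat.of k))) ⟶ H, rt a ≫ rt a⁻¹ = 𝟙 H := by
      intro a
      rw [← rt_mul, mul_inv_cancel, rt, MonObj.comp_one, _root_.mul_one]
    refine ⟨rt h⁻¹, h1 h, ?_⟩
    have := h1 h⁻¹
    rwa [_root_.inv_inv] at this
  have i1 := hinv g
  have i2 := hinv (g ≫ π)
  have hsq : IsPullback (rt g) π π (rt (g ≫ π)) := IsPullback.of_horiz_isIso ⟨by
    rw [comp_rt, rt, MonObj.mul_comp, Category.id_comp, Category.assoc]⟩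
  have h1 : IsPullback i (toUnit K) π η[Q] := hker
  have h2 := h1.paste_horiz hsq
  have h3 : η[Q] ≫ rt (g ≫ π) = g ≫ π := by
    rw [comp_rt]
    have : (η[Q] : 𝟙_ (Over (Spec (CommRingCat.of k))) ⟶ Q) = 1 := by
      rw [Hom.one_def]
      simp
    rw [this, _root_.one_mul]
    simp
  rwa [h3] at h2

variable {m : ℕ} (hm : (m : k) ≠ 0)

include hm in
/-- A class whose restriction to the kernel vanishes is étale locally zero on the quotient. -/
theorem locally_zero [IsAlgClosed k] {K G Q : Over (Spec (CommRingCat.of k))} [GrpObj G]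
    [GrpObj Q] (i : K ⟶ G) (π : G ⟶ Q) [IsMonHom π] (hker : AlgGrp.IsKernel i π) [Smooth π.left]
    [Surjective π.left] [LocallyOfFiniteType K.hom] [QuasiCompact K.hom]
    [LocallyOfFiniteType G.hom] [QuasiCompact G.hom] [ConnectedSpace G.left]
    [LocallyOfFiniteType Q.hom] (M : Type) [AddCommGroup M] [Finite M] (hM : ∀ x : M, m • x = 0)
    (n : ℕ) (x : HH G.left (EtCoh.const G.left M) n) (hx : HC M i.left n x = 0) (y : Q.left) :
    ∃ (V : Q.left.Etale) (v : V.left), V.hom v = y ∧ HC M (pullback.fst π.left V.hom) n x = 0 := by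
  obtain ⟨d, hd⟩ := K833.FibSeq.exists_square i π hker
  obtain ⟨U, c, u, hc, hu, σ, hσ⟩ :=
    Groth.Agent.FlatA.EtaleSections.exists_section π.left y (Surjective.surj (f := π.left) y)
  have hcQ : LocallyOfFiniteType (c ≫ Q.hom) := inferInstance
  obtain ⟨W, huW, hWc, s, hs⟩ := K833.ConnNhd.exists_nhd (c ≫ Q.hom) u
  -- the connected étale neighbourhood
  let c' : (W : Scheme.{u}) ⟶ Q.left := W.ι ≫ c
  have hc' : Etale c' := inferInstance
  let τ : (W : Scheme.{u}) ⟶ G.left := W.ι ≫ σ
  have hτ : τ ≫ π.left = c' := by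
    change (W.ι ≫ σ) ≫ π.left = W.ι ≫ c
    rw [Category.assoc, hσ]
  have hsG : s ≫ τ ≫ G.hom = 𝟙 _ := by
    rw [← hs]
    change s ≫ (W.ι ≫ σ) ≫ G.hom = _
    rw [Category.assoc, ← Over.w π, ← Category.assoc σ, hσ]
  -- the square over the neighbourhood
  let β : pullback π.left c' ⟶ pullback π.left π.left :=
    pullback.lift (pullback.snd π.left c' ≫ τ) (pullback.fst π.left c') (by
      rw [Category.assoc, hτ, pullback.condition])
  have hβ1 : β ≫ pullback.fst π.left π.left = pullback.snd π.left c' ≫ τ := pullback.lift_fst _ _ _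
  have hβ2 : β ≫ pullback.snd π.left π.left = pullback.fst π.left c' := pullback.lift_snd _ _ _
  have h1 : IsPullback (pullback.snd π.left π.left) (pullback.fst π.left π.left) π.left π.left :=
    (IsPullback.of_hasPullback π.left π.left).flip
  have hβ : IsPullback β (pullback.snd π.left c') (pullback.fst π.left π.left) τ := by
    refine IsPullback.of_right ?_ hβ1 h1
    rw [hβ2, hτ]
    exact IsPullback.of_hasPullback π.left c'
  have hβd : IsPullback (β ≫ d) (pullback.snd π.left c') K.hom (τ ≫ G.hom) :=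
    hβ.paste_horiz hd.flip
  -- the fibre over the rational point
  let g : 𝟙_ (Over (Spec (CommRingCat.of k))) ⟶ G := Over.homMk (s ≫ τ) (by
    rw [Category.assoc, hsG]; rfl)
  have hg : g.left = s ≫ τ := rfl
  have hfib : IsPullback (i ≫ rt g).left K.hom π.left (s ≫ c') := by
    have h2 := (isPullback_translate i π hker g).map (Over.forget _)
    have h3 : IsPullback (i ≫ rt g).left (toUnit K).left π.left (g ≫ π).left := h2
    have h4 : (g ≫ π).left = s ≫ c' := by
      rw [Over.comp_left, hg, Category.assoc, hτ]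
    rw [toUnit_left, h4] at h3
    exact h3
  let j : K.left ⟶ pullback π.left c' := pullback.lift (i ≫ rt g).left (K.hom ≫ s) (by
    rw [Category.assoc, hfib.w])
  have hj1 : j ≫ pullback.fst π.left c' = (i ≫ rt g).left := pullback.lift_fst _ _ _
  have hj2 : j ≫ pullback.snd π.left c' = K.hom ≫ s := pullback.lift_snd _ _ _
  have hj : IsPullback j K.hom (pullback.snd π.left c') s := by
    refine IsPullback.of_right ?_ hj2 (IsPullback.of_hasPullback π.left c')
    rw [hj1]
    exact hfib
  have hjd : IsPullback (j ≫ β ≫ d) K.hom K.hom (s ≫ τ ≫ G.hom) := hj.paste_horiz hβd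
  rw [hsG] at hjd
  have hiso : IsIso (j ≫ β ≫ d) := hjd.isIso_fst_of_isIso
  have hinvK : inv (j ≫ β ≫ d) ≫ K.hom = K.hom := by
    rw [IsIso.inv_comp_eq, hjd.w, Category.comp_id]
  have hy : IsPullback ((β ≫ d) ≫ inv (j ≫ β ≫ d)) (pullback.snd π.left c') K.hom (τ ≫ G.hom) := by
    refine IsPullback.of_iso hβd (Iso.refl _) (asIso (inv (j ≫ β ≫ d))) (Iso.refl _) (Iso.refl _)
      ?_ ?_ ?_ ?_
    · simp
    · simp
    · simp [hinvK]
    · simp
  have hz : HC M j n (HC M (pullback.fst π.left c') n x) = 0 := by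
    rw [← HC_comp, hj1, Over.comp_left, HC_comp, K833.TransTriv.HC_rt hm G g M hM, hx]
  obtain ⟨V, v', hv', h'⟩ := K833.EffFib.of_fibre hm K.hom (pullback.snd π.left c') (τ ≫ G.hom) s
    hsG hy M hM n (HC M (pullback.fst π.left c') n x) j
    (by rw [← Category.assoc]; exact IsIso.hom_inv_id _) hj2 hz ⟨u, huW⟩
  refine ⟨Scheme.Etale.mk (V.hom ≫ c'), v', ?_, ?_⟩
  · change (V.hom ≫ c') v' = y
    rw [Scheme.Hom.comp_apply, hv']
    change c (W.ι ⟨u, huW⟩) = y
    exact hu
  · let ρ : pullback π.left (V.hom ≫ c') ⟶ pullback (pullback.snd π.left c') V.hom :=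
      pullback.lift (pullback.lift (pullback.fst _ _) (pullback.snd _ _ ≫ V.hom) (by
        rw [Category.assoc, pullback.condition])) (pullback.snd _ _) (by rw [pullback.lift_snd])
    have hρ : ρ ≫ pullback.fst (pullback.snd π.left c') V.hom ≫ pullback.fst π.left c' =
        pullback.fst π.left (V.hom ≫ c') := by
      rw [pullback.lift_fst_assoc, pullback.lift_fst]
    change HC M (pullback.fst π.left (V.hom ≫ c')) n x = 0
    rw [← hρ, HC_comp, HC_comp, h', map_zero]

include hm in
/-- **Exactness in degree one.** -/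
theorem exact_one' [IsAlgClosed k] {K G Q : Over (Spec (CommRingCat.of k))} [GrpObj G]
    [GrpObj Q] (i : K ⟶ G) (π : G ⟶ Q) [IsMonHom π] (hker : AlgGrp.IsKernel i π) [Smooth π.left]
    [Surjective π.left] [LocallyOfFiniteType K.hom] [QuasiCompact K.hom] [ConnectedSpace K.left]
    [LocallyOfFiniteType G.hom] [QuasiCompact G.hom] [ConnectedSpace G.left]
    [LocallyOfFiniteType Q.hom] (M : Type) [AddCommGroup M] [Finite M] (hM : ∀ x : M, m • x = 0)
    (x : HH G.left (EtCoh.const G.left M) 1) (hx : HC M i.left 1 x = 0) :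
    ∃ y : HH Q.left (EtCoh.const Q.left M) 1, HC M π.left 1 y = x := by
  have hQ : IsLocallyNoetherian Q.left := LocallyOfFiniteType.isLocallyNoetherian Q.hom
  have hgc := K522.LHGroup.geometricallyConnected i π hker
  obtain ⟨-, -, w, hw⟩ := K833.EffMain.special M (fun _ => G.left) (fun _ => π.left)
    (fun _ => 𝟙 G.left) (fun _ => Category.id_comp _) (fun _ _ => Category.id_comp _)
    (fun _ => K833.EffUnit.isIso_unit π.left M) 0 (fun t h1 h2 => by omega) 0 x
    (fun y => locally_zero hm i π hker M hM 1 x hx y)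
  refine ⟨w, hw.symm.trans ?_⟩
  exact HC_id M 1 x

/-- **Exactness in degree one** for an exact sequence `1 ⟶ K ⟶ G ⟶ Q ⟶ 1` of connected group varieties over an
algebraically closed field: a class in `H^1(G, ℤ/ℓ^ν)` whose restriction to `K` vanishes comes from `Q`. -/
theorem exact_one [IsAlgClosed k] (ℓ : ℕ) (hℓ : (ℓ : k) ≠ 0)
    (K G Q : Over (Spec (CommRingCat.of k))) [GrpObj G] [GrpObj Q]
    [Smooth K.hom] [QuasiCompact K.hom] [ConnectedSpace K.left]
    [LocallyOfFiniteType G.hom] [QuasiCompact G.hom] [ConnectedSpace G.left]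
    [LocallyOfFiniteType Q.hom] [QuasiCompact Q.hom]
    (i : K ⟶ G) (π : G ⟶ Q) [IsMonHom π] [Flat π.left] [Surjective π.left]
    (hker : AlgGrp.IsKernel i π) (ν : ℕ)
    (x : HH G.left (EtCoh.const G.left (ZMod (ℓ ^ ν))) 1) (hx : HC (ZMod (ℓ ^ ν)) i.left 1 x = 0) :
    ∃ y : HH Q.left (EtCoh.const Q.left (ZMod (ℓ ^ ν))) 1, HC (ZMod (ℓ ^ ν)) π.left 1 y = x := by
  have hG : IsLocallyNoetherian G.left := LocallyOfFiniteType.isLocallyNoetherian G.hom
  have hqc : QuasiCompact π.left := by
    have : QuasiCompact (π.left ≫ Q.hom) := by rw [Over.w]; infer_instance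
    have : IsLocallyNoetherian Q.left := LocallyOfFiniteType.isLocallyNoetherian Q.hom
    exact QuasiCompact.of_comp π.left Q.hom
  have hsm := K522.LHGroup.smooth_of_kernel i π hker
  have hl0 : ℓ ≠ 0 := fun h => hℓ (by rw [h, Nat.cast_zero])
  have hp : ((ℓ ^ ν : ℕ) : k) ≠ 0 := by
    rw [Nat.cast_pow]
    exact pow_ne_zero _ hℓ
  have : NeZero (ℓ ^ ν) := ⟨pow_ne_zero _ hl0⟩
  exact exact_one' hp i π hker (ZMod (ℓ ^ ν)) (fun x => by
    rw [nsmul_eq_mul, ZMod.natCast_self, zero_mul]) x hx

end K522.ExactOne
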