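import Groth.Agent.EtAdic.K522.Tower
import Groth.Agent.AbVar.K530.TorPts
import Groth.Agent.Sga3B.TorusAlgClosed
import Groth.Agent.Sga3B.MaxTorusCrit
import Groth.Agent.Sga3.H805.Det

/-!
# NODE-GEO: comparison of a commutative group variety with a torus by `l`-power isogenies
-/

set_option autoImplicit false
universe u

open CategoryTheory MonoidalCategory CartesianMonoidalCategory MonObj GrpObj AlgebraicGeometry Limits

noncomputable section

namespace K522.Geo

open K522.Tower K522.Level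

/-- The split torus `G_m ^ b`. -/
abbrev Tor (k : Type u) [Field k] (b : ℕ) : Over (Spec (CommRingCat.of k)) :=
  Red.DS (Spec (CommRingCat.of k)) (Fin b → ℤ)

instance (k : Type u) [Field k] (b : ℕ) : IsCommMonObj (Tor k b) := inferInstance

theorem isTorus (k : Type u) [Field k] (b : ℕ) : Red.IsTorus (Tor k b) := Groth.Agent.Sga3B.MaxTorusCrit.isTorus_DS _ b

instance smooth (k : Type u) [Field k] (b : ℕ) : Smooth (Tor k b).hom :=
  Groth.Agent.Sga3B.TorusAlgClosed.smooth_of_isTorus (isTorus k b)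

instance quasiCompact (k : Type u) [Field k] (b : ℕ) : QuasiCompact (Tor k b).hom := inferInstance

instance connected (k : Type u) [Field k] (b : ℕ) : ConnectedSpace (Tor k b).left := by
  have := Groth.Agent.Sga3.H805.Det.isIntegral_DS k b
  infer_instance

theorem card_tor (k : Type u) [Field k] [IsAlgClosed k] (b l : ℕ) (hl : (l : k) ≠ 0) :
    Nat.card {x : 𝟙_ (Over (Spec (CommRingCat.of k))) ⟶ Tor k b // x ^ l = 1} = l ^ b :=
  K530.TorPts.card_torsion (isTorus k b) l hl b (Groth.Agent.Sga3.H816.TorusDim.topologicalKrullDim_DS k b)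

/-- **NODE-GEO.** For a commutative group variety `G` over an algebraically closed field `k` and a prime number
`l` different from the characteristic there are `b` and, with `G' = G_m ^ b`, a tower `E m` with morphisms
`p m : E m ⟶ G`, `p' m : E m ⟶ G'` compatible with the transition morphisms, such that the base change of `p m`
along `[l ^ m] : G ⟶ G` is the projection `G × G' ⟶ G`, and the base change of `p' m` along `[l ^ m] : G' ⟶ G'` is
the projection `G × G' ⟶ G'`; the transitions are induced by `[l] × [l]`. -/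
theorem main (k : Type u) [Field k] [IsAlgClosed k] (l : ℕ) [Fact l.Prime] (hl : (l : k) ≠ 0)
    (G : Over (Spec (CommRingCat.of k))) [GrpObj G] [IsCommMonObj G] [Smooth G.hom] [QuasiCompact G.hom]
    [ConnectedSpace G.left] :
    ∃ (b : ℕ) (E : ℕ → Over (Spec (CommRingCat.of k))) (tr : ∀ m, E (m + 1) ⟶ E m) (p : ∀ m, E m ⟶ G)
      (p' : ∀ m, E m ⟶ Tor k b) (s : ∀ m, G ⊗ Tor k b ⟶ E m),
      (∀ m, tr m ≫ p m = p (m + 1)) ∧ (∀ m, tr m ≫ p' m = p' (m + 1)) ∧
      (∀ m, IsPullback (s m) (fst G (Tor k b)) (p m) ((𝟙 G) ^ (l ^ m))) ∧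
      (∀ m, IsPullback (s m) (snd G (Tor k b)) (p' m) ((𝟙 (Tor k b)) ^ (l ^ m))) ∧
      (∀ m, s (m + 1) ≫ tr m = (((𝟙 G) ^ l) ⊗ₘ ((𝟙 (Tor k b)) ^ l)) ≫ s m) ∧
      (∀ m, Etale ((𝟙 G) ^ (l ^ m)).left ∧ Surjective ((𝟙 G) ^ (l ^ m)).left) ∧
      (∀ m, Etale ((𝟙 (Tor k b)) ^ (l ^ m)).left ∧ Surjective ((𝟙 (Tor k b)) ^ (l ^ m)).left) ∧
      Nat.card {x : 𝟙_ (Over (Spec (CommRingCat.of k))) ⟶ G // x ^ l = 1} = l ^ b := by
  obtain ⟨b, hb⟩ := natCard_tors (G := G) l hl
  obtain ⟨E, tr, p, p', s, h1, h2, h3, h4, h5⟩ := main_pair (G := G) (G' := Tor k b) l hl b hb (card_tor k b l hl)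
  have hln : ∀ m : ℕ, ((l ^ m : ℕ) : k) ≠ 0 := fun m => by
    rw [Nat.cast_pow]
    exact pow_ne_zero _ hl
  exact ⟨b, E, tr, p, p', s, h1, h2, h3, h4, h5,
    fun m => ⟨K809.NeutralN.etale_pow G _ (hln m), K809.NeutralN.surjective_pow G _ (hln m)⟩,
    fun m => ⟨K809.NeutralN.etale_pow _ _ (hln m), K809.NeutralN.surjective_pow _ _ (hln m)⟩, hb⟩

end K522.Geo
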