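import Groth.Agent.EtAdic.K522.TorsSq
import Groth.Agent.AbVar.K530.ConstKer
import Groth.Agent.S3030
import Groth.Agent.TateLoc.K809.NeutralN

/-!
# The quotient of `G × G'` by the graph of an isomorphism of the `n`-torsion groups

`k` algebraically closed, `n` invertible in `k`.
-/

set_option autoImplicit false
universe u

open CategoryTheory MonoidalCategory CartesianMonoidalCategory MonObj GrpObj AlgebraicGeometry Limits

noncomputable section

namespace K522.Level

open K530.ConstGrp K530.ConstKer K522.TorsSq Groth.Agent.Books.AlgPts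

variable {k : Type u} [Field k]

local notation "𝕊" => Spec (CommRingCat.of k)

/-- `[n]`. -/
abbrev pw (G : Over 𝕊) [GrpObj G] (n : ℕ) : G ⟶ G := (𝟙 G) ^ n

instance isMonHom_pw (G : Over 𝕊) [GrpObj G] [IsCommMonObj G] (n : ℕ) : IsMonHom (pw G n) :=
  K809.NeutralN.isMonHom_pow G n

theorem comp_pw {T G : Over 𝕊} [GrpObj G] (x : T ⟶ G) (n : ℕ) : x ≫ pw G n = x ^ n := by
  rw [MonObj.comp_pow, Category.comp_id]

/-- The group of rational points. -/
abbrev Pt (G : Over 𝕊) : Type u := 𝟙_ (Over 𝕊) ⟶ G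

section cst

variable {M : Type u}

theorem hom_ext' {S : Scheme.{u}} {Y : Over S} {f g : cst S M ⟶ Y} (h : ∀ m, sec S m ≫ f = sec S m ≫ g) : f = g := by
  ext1
  exact hom_ext fun m => congrArg CommaMorphism.left (h m)

instance finite_cst [Finite M] : Finite (cst 𝕊 M).left := by
  have h0 : Subsingleton 𝕊 := inferInstanceAs (Subsingleton (PrimeSpectrum k))
  refine Finite.of_injective (fun x : (cst 𝕊 M).left => idx 𝕊 M x) ?_
  intro x y h
  obtain ⟨s, hs⟩ := exists_inj x
  obtain ⟨t, ht⟩ := exists_inj y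
  rw [← hs, ← ht]
  dsimp only at h
  rw [h, Subsingleton.elim s t]

theorem quasiCompact_of_cst [Finite M] {X : Scheme.{u}} (f : (cst 𝕊 M).left ⟶ X) : QuasiCompact f := by
  have : TopologicalSpace.NoetherianSpace (cst 𝕊 M).left := inferInstance
  exact quasiCompact_of_noetherianSpace_source f

end cst

variable [IsAlgClosed k]

variable {G : Over (Spec (CommRingCat.of k))} [GrpObj G] [IsCommMonObj G] [LocallyOfFiniteType G.hom] {M : Type u}
  [CommGroup M]

/-- The constant group of `n`-torsion points is the kernel of `[n]`. -/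
theorem isKernel_desc (n : ℕ) (hn : (n : k) ≠ 0) (α : M →* Pt G) (hα : Function.Injective α)
    (hr : ∀ x : Pt G, x ^ n = 1 ↔ ∃ m, α m = x) :
    AlgGrp.IsKernel (desc (fun m => α m) : cst 𝕊 M ⟶ G) (pw G n : G ⟶ G) ∧ Etale (cst 𝕊 M).hom := by
  let N : Over 𝕊 := pullback (pw G n) η[G]
  let i : N ⟶ G := pullback.fst (pw G n) η[G]
  have hN0 : IsPullback i (pullback.snd (pw G n) η[G]) (pw G n) η[G] := IsPullback.of_hasPullback _ _
  have hN : IsPullback i (toUnit N) (pw G n) η[G] := by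
    rwa [toUnit_unique (toUnit N) (pullback.snd (pw G n) η[G])]
  have het : Etale (pw G n).left := K809.NeutralN.etale_pow G n hn
  have hEt : Etale N.hom := by
    have h1 : Etale (toUnit N).left := MorphismProperty.of_isPullback (hN.map (Over.forget _)) het
    have h2 : (toUnit N).left = N.hom := by
      simp
    rwa [h2] at h1
  -- rational points of `N`
  have hlift : ∀ m : M, α m ≫ pw G n = toUnit _ ≫ η[G] := fun m => by
    rw [comp_pw, (hr _).2 ⟨m, rfl⟩, Hom.one_def]
  let ρ : M → Pt N := fun m => hN.lift (α m) (toUnit _) (hlift m)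
  have hρi : ∀ m, ρ m ≫ i = α m := fun m => hN.lift_fst _ _ _
  have hρ : Function.Bijective ρ := by
    constructor
    · intro a b h
      apply hα
      rw [← hρi, ← hρi, h]
    · intro x
      obtain ⟨m, hm⟩ := (hr (x ≫ i)).1 (by
        rw [← comp_pw, Category.assoc, hN.w, ← Category.assoc, toUnit_unique (x ≫ toUnit N) (toUnit _), ← Hom.one_def])
      exact ⟨m, hN.hom_ext (by rw [hρi, hm]) (toUnit_unique _ _)⟩
  -- the comparison of constant groups
  let R : cst 𝕊 M ⟶ cst 𝕊 (Pt N) := desc (fun m => sec 𝕊 (ρ m))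
  let σ : Pt N → M := fun x => (Function.surjInv hρ.2 x)
  have hσ1 : ∀ x, ρ (σ x) = x := Function.surjInv_eq hρ.2
  have hσ2 : ∀ m, σ (ρ m) = m := fun m => hρ.1 (hσ1 _)
  let R' : cst 𝕊 (Pt N) ⟶ cst 𝕊 M := desc (fun x => sec 𝕊 (σ x))
  have e1 : R ≫ R' = 𝟙 _ := hom_ext' fun m => by
    rw [← Category.assoc, sec_desc, sec_desc, hσ2, Category.comp_id]
  have e2 : R' ≫ R = 𝟙 _ := hom_ext' fun m => by
    rw [← Category.assoc, sec_desc, sec_desc, hσ1, Category.comp_id]
  let ε : cst 𝕊 M ≅ N := ⟨R, R', e1, e2⟩ ≪≫ @asIso _ _ _ _ (desc (fun g : Pt N => g)) isIso_desc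
  have hε : ε.hom ≫ i = desc (fun m => α m) := hom_ext' fun m => by
    have h1 : ε.hom = R ≫ desc (fun g : Pt N => g) := rfl
    rw [h1, Category.assoc, ← Category.assoc, sec_desc, ← Category.assoc, sec_desc, hρi, sec_desc]
  refine ⟨?_, ?_⟩
  · refine IsPullback.of_iso hN ε.symm (Iso.refl _) (Iso.refl _) (Iso.refl _) ?_ ?_ ?_ ?_
    · rw [← hε]
      simp
    · exact toUnit_unique _ _
    · simp
    · simp
  · have h1 : ε.hom.left ≫ N.hom = (cst 𝕊 M).hom := Over.w ε.hom
    have h2 : IsIso ε.hom.left := inferInstanceAs (IsIso ((Over.forget _).map ε.hom))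
    rw [← h1]
    infer_instance


/-- The datum at level `n`: the quotient `E` of `G × G'` by the subgroup `u : K ⟶ G × G'`, with the morphisms
to `G` and `G'` induced by `[n]`. -/
structure Lvl (G G' : Over (Spec (CommRingCat.of k))) [GrpObj G] [GrpObj G'] {K : Over (Spec (CommRingCat.of k))}
    (u : K ⟶ G ⊗ G') (n : ℕ) where
  E : Over (Spec (CommRingCat.of k))
  [grp : GrpObj E]
  s : G ⊗ G' ⟶ E
  p : E ⟶ G
  p' : E ⟶ G'
  hs : IsMonHom s
  flat : Flat s.left
  surj : Surjective s.left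
  lfp : LocallyOfFinitePresentation s.left
  ker : AlgGrp.IsKernel u s
  sq : IsPullback s (fst _ _) p (pw G n)
  sq' : IsPullback s (snd _ _) p' (pw G' n)

omit [IsAlgClosed k] in
theorem epi_of_flat {X Y : Over (Spec (CommRingCat.of k))} (s : X ⟶ Y) [Flat s.left] [Surjective s.left] : Epi s :=
  Groth.Agent.Sga3C.QuotProps.epi_of_flat_surjective s

/-- Existence of the quotient at level `n`. -/
theorem exists_lvl {G' : Over (Spec (CommRingCat.of k))} [GrpObj G'] [IsCommMonObj G'] [Smooth G.hom] [Smooth G'.hom]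
    [QuasiCompact G.hom] [QuasiCompact G'.hom] [Finite M] (n : ℕ) (hn : (n : k) ≠ 0) (α : M →* Pt G) (β : M →* Pt G')
    (hα : Function.Injective α) (hβ : Function.Injective β) (hrα : ∀ x : Pt G, x ^ n = 1 ↔ ∃ m, α m = x)
    (hrβ : ∀ x : Pt G', x ^ n = 1 ↔ ∃ m, β m = x) :
    Nonempty (Lvl G G' (lift (desc (fun m => α m)) (desc (fun m => β m)) : cst 𝕊 M ⟶ G ⊗ G') n) := by
  obtain ⟨a1, a2⟩ := isKernel_desc n hn α hα hrα
  obtain ⟨b1, -⟩ := isKernel_desc n hn β hβ hrβ
  have a3 : IsMonHom (desc (fun m => α m) : cst 𝕊 M ⟶ G) := isMonHom_desc α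
  have b3 : IsMonHom (desc (fun m => β m) : cst 𝕊 M ⟶ G') := isMonHom_desc β
  let u : cst 𝕊 M ⟶ G ⊗ G' := lift (desc (fun m => α m)) (desc (fun m => β m))
  have hu1 : u ≫ fst _ _ = desc (fun m => α m) := lift_fst _ _
  have hu2 : u ≫ snd _ _ = desc (fun m => β m) := lift_snd _ _
  have hmα : Mono (desc (fun m => α m) : cst 𝕊 M ⟶ G) := by
    have hη : Mono (η[G] : 𝟙_ (Over 𝕊) ⟶ G) := ⟨fun _ _ _ => toUnit_unique _ _⟩
    exact MorphismProperty.of_isPullback (P := MorphismProperty.monomorphisms _) a1.flip hη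
  have hmu : Mono u := mono_of_mono_fac hu1
  have hqu : QuasiCompact u.left := quasiCompact_of_cst u.left
  have hflK : Flat (cst 𝕊 M).hom := inferInstance
  have hflG : Smooth (G ⊗ G').hom := by
    have : (G ⊗ G').hom = Limits.pullback.fst G.hom G'.hom ≫ G.hom := rfl
    rw [this]
    infer_instance
  have hN : AlgGrp.IsNormalHom u := fun T g x => ⟨x, by
    rw [_root_.mul_comm g, _root_.mul_assoc, mul_inv_cancel, _root_.mul_one]⟩
  obtain ⟨E, gE, s, hs, fs, ss, ls, hk, hsep, -, -⟩ := Groth.Agent.S3030.result k (cst 𝕊 M) (G ⊗ G') u hN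
  have hqc : QuasiCompact s.left := by
    have h1 : s.left ≫ E.hom = (G ⊗ G').hom := Over.w s
    have h2 : (G ⊗ G').hom = Limits.pullback.fst G.hom G'.hom ≫ G.hom := rfl
    have h3 : QuasiCompact (s.left ≫ E.hom) := by
      rw [h1, h2]
      infer_instance
    exact QuasiCompact.of_comp s.left E.hom
  have hd1 := K523.KerSq.exists_desc_hom u s hk (fst G G' ≫ pw G n) (by
    rw [← Category.assoc, hu1, a1.w, Hom.one_def])
  have hd2 := K523.KerSq.exists_desc_hom u s hk (snd G G' ≫ pw G' n) (by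
    rw [← Category.assoc, hu2, b1.w, Hom.one_def])
  obtain ⟨p, -, hp⟩ := hd1
  obtain ⟨p', -, hp'⟩ := hd2
  exact ⟨⟨E, s, p, p', hs, fs, ss, ls, hk,
    isPullback_of_ker s (pw G n) (fst _ _) p hp u hk (by rw [hu1]; exact a1),
    isPullback_of_ker s (pw G' n) (snd _ _) p' hp' u hk (by rw [hu2]; exact b1)⟩⟩

end K522.Level
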