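import Mathlib.LinearAlgebra.Dimension.Free
import Mathlib.LinearAlgebra.FiniteDimensional.Basic
import Mathlib.LinearAlgebra.Quotient.Basic
import Mathlib.LinearAlgebra.Isomorphisms
import Mathlib.Algebra.Module.Torsion.Basic
import Mathlib.FieldTheory.Finiteness
import Mathlib.Data.ZMod.Basic
import Mathlib.Algebra.Module.ZMod
import Mathlib.Algebra.Field.ZMod
import Mathlib.LinearAlgebra.Finsupp.LinearCombination
import Mathlib.SetTheory.Cardinal.Finite

/-!
# Torsion of `l`-divisible abelian groups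

Two `l`-divisible abelian groups with isomorphic finite `l`-torsion have compatible isomorphisms between
their `l ^ m`-torsion subgroups (`exists_phi`).
-/

set_option autoImplicit false

namespace K522.TorAlg

open Module

/-- Compatible systems of `l`-power roots of a basis of the `l`-torsion. -/
structure Roots (l b : ℕ) (A : Type*) [AddCommGroup A] where
  e : ℕ → Fin b → A
  zero : ∀ i, e 0 i = 0
  succ : ∀ m i, l • e (m + 1) i = e m i
  inj : ∀ a : Fin b → ℤ, Fintype.linearCombination ℤ (e 1) a = 0 → ∀ i, (l : ℤ) ∣ a i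
  surj : ∀ x : A, l • x = 0 → ∃ a : Fin b → ℤ, Fintype.linearCombination ℤ (e 1) a = x

section

variable {A : Type*} [AddCommGroup A] {l b : ℕ}

/-- The combination of the `l ^ m`-torsion generators. -/
noncomputable def Roots.psi (E : Roots l b A) (m : ℕ) : (Fin b → ℤ) →ₗ[ℤ] A := Fintype.linearCombination ℤ (E.e m)

theorem Roots.psi_apply (E : Roots l b A) (m : ℕ) (a : Fin b → ℤ) : E.psi m a = ∑ i, a i • E.e m i :=
  Fintype.linearCombination_apply _ _ _

theorem Roots.smul_psi (E : Roots l b A) (m : ℕ) (a : Fin b → ℤ) : l • E.psi (m + 1) a = E.psi m a := by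
  rw [E.psi_apply, E.psi_apply, Finset.smul_sum]
  refine Finset.sum_congr rfl fun i _ => ?_
  rw [smul_comm, E.succ]

theorem Roots.pow_smul_psi (E : Roots l b A) (m j : ℕ) (a : Fin b → ℤ) : l ^ m • E.psi (m + j) a = E.psi j a := by
  induction m with
  | zero => rw [pow_zero, one_smul, zero_add]
  | succ m ih =>
    rw [pow_succ, mul_smul, show m + 1 + j = (m + j) + 1 by omega, E.smul_psi, ih]

theorem Roots.psi_zero (E : Roots l b A) (a : Fin b → ℤ) : E.psi 0 a = 0 := by
  rw [E.psi_apply]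
  exact Finset.sum_eq_zero fun i _ => by rw [E.zero, smul_zero]

theorem Roots.psi_eq_zero_iff (E : Roots l b A) (m : ℕ) (a : Fin b → ℤ) :
    E.psi m a = 0 ↔ ∀ i, (l : ℤ) ^ m ∣ a i := by
  induction m generalizing a with
  | zero => exact ⟨fun _ i => by rw [pow_zero]; exact one_dvd _, fun _ => E.psi_zero a⟩
  | succ m ih =>
    constructor
    · intro h
      have h1 : E.psi 1 a = 0 := by
        rw [← E.pow_smul_psi m 1 a, h, smul_zero]
      choose c hc using E.inj a h1
      have h2 : a = (l : ℤ) • c := by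
        funext i
        rw [hc i, Pi.smul_apply, smul_eq_mul]
      have h3 : E.psi m c = 0 := by
        rw [← E.smul_psi m c, ← h, h2, map_smul, natCast_zsmul]
      intro i
      rw [hc i, pow_succ, mul_comm]
      exact mul_dvd_mul_left _ ((ih c).1 h3 i)
    · intro h
      choose c hc using h
      have h2 : a = (l : ℤ) • ((l : ℤ) ^ m • c) := by
        funext i
        rw [hc i, Pi.smul_apply, Pi.smul_apply, smul_eq_mul, smul_eq_mul]
        ring
      rw [h2, map_smul, natCast_zsmul, E.smul_psi]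
      exact (ih _).2 fun i => ⟨c i, rfl⟩

theorem Roots.pow_smul_eq_zero_iff (E : Roots l b A) (m : ℕ) (x : A) :
    l ^ m • x = 0 ↔ ∃ a, E.psi m a = x := by
  constructor
  · induction m generalizing x with
    | zero =>
      intro h
      exact ⟨0, by rw [map_zero, ← h, pow_zero, one_smul]⟩
    | succ m ih =>
      intro h
      obtain ⟨a, ha⟩ := ih (l • x) (by rw [smul_smul, ← pow_succ, h])
      obtain ⟨c, hc⟩ := E.surj (x - E.psi (m + 1) a) (by rw [smul_sub, E.smul_psi, ha, sub_self])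
      refine ⟨a + (l : ℤ) ^ m • c, ?_⟩
      have h1 : E.psi (m + 1) ((l : ℤ) ^ m • c) = E.psi 1 c := by
        rw [map_smul, ← E.pow_smul_psi m 1 c]
        norm_cast
      rw [map_add, h1]
      change _ + Fintype.linearCombination ℤ (E.e 1) c = _
      rw [hc, add_sub_cancel]
  · rintro ⟨a, rfl⟩
    have h := E.pow_smul_psi m 0 a
    rw [add_zero] at h
    rw [h, E.psi_zero]

theorem basis_of_card [Fact l.Prime] (V : Type*) [AddCommGroup V] [Module (ZMod l) V] (hc : Nat.card V = l ^ b) :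
    ∃ β : Fin b → V, (∀ a : Fin b → ℤ, ∑ i, a i • β i = 0 → ∀ i, (l : ℤ) ∣ a i) ∧
      ∀ x : V, ∃ a : Fin b → ℤ, ∑ i, a i • β i = x := by
  have hl : l.Prime := Fact.out
  haveI : Finite V := Nat.finite_of_card_ne_zero (by rw [hc]; exact pow_ne_zero _ hl.ne_zero)
  haveI : Module.Finite (ZMod l) V := Module.Finite.of_finite
  have hb : finrank (ZMod l) V = b := by
    have h1 : Nat.card V = Nat.card (ZMod l) ^ finrank (ZMod l) V :=
      Module.natCard_eq_pow_finrank (K := ZMod l) (V := V)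
    rw [hc, Nat.card_zmod] at h1
    exact (Nat.pow_right_injective hl.two_le h1).symm
  let β : Basis (Fin b) (ZMod l) V := (Module.finBasis (ZMod l) V).reindex (finCongr hb)
  have hcast : ∀ (n : ℤ) (x : V), ((n : ZMod l)) • x = n • x := fun n x => Int.cast_smul_eq_zsmul (ZMod l) n x
  refine ⟨β, fun a ha i => ?_, fun x => ?_⟩
  · simp_rw [← hcast] at ha
    have h2 := Fintype.linearIndependent_iff.1 β.linearIndependent _ ha i
    rwa [ZMod.intCast_zmod_eq_zero_iff_dvd] at h2
  · have h1 := β.sum_repr x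
    choose a ha using fun i => ZMod.intCast_surjective (β.repr x i)
    refine ⟨a, ?_⟩
    simp_rw [← hcast, ha]
    exact h1

theorem natCard_torsion (A : Type*) [AddCommGroup A] [Fact l.Prime] [Finite {x : A // l • x = 0}] :
    ∃ b : ℕ, Nat.card {x : A // l • x = 0} = l ^ b := by
  let V := Submodule.torsionBy ℤ A (l : ℤ)
  have hV : ∀ x : A, x ∈ V ↔ l • x = 0 := fun x => by
    rw [Submodule.mem_torsionBy_iff, natCast_zsmul]
  have hVl : ∀ x : V, l • x = 0 := fun x => Subtype.ext ((hV x.1).1 x.2)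
  have hc : Nat.card {x : A // l • x = 0} = Nat.card V := Nat.card_congr (Equiv.subtypeEquivRight fun x => (hV x).symm)
  have hf : Finite V := Finite.of_equiv _ (Equiv.subtypeEquivRight fun x => (hV x).symm : {x : A // l • x = 0} ≃ V)
  have key : ∀ (V : Type _) [AddCommGroup V] [Module (ZMod l) V] [Finite V], ∃ b, Nat.card V = l ^ b := by
    intro V _ _ _
    have : Module.Finite (ZMod l) V := Module.Finite.of_finite
    have h1 : Nat.card V = Nat.card (ZMod l) ^ finrank (ZMod l) V :=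
      Module.natCard_eq_pow_finrank (K := ZMod l) (V := V)
    rw [Nat.card_zmod] at h1
    exact ⟨_, h1⟩
  rw [hc]
  exact @key V _ (AddCommGroup.zmodModule hVl) hf

/-- Existence of compatible systems of roots. -/
theorem exists_roots [Fact l.Prime] (hdiv : ∀ x : A, ∃ y, l • y = x)
    (hcard : Nat.card {x : A // l • x = 0} = l ^ b) : Nonempty (Roots l b A) := by
  choose r hr using hdiv
  let V := Submodule.torsionBy ℤ A (l : ℤ)
  have hV : ∀ x : A, x ∈ V ↔ l • x = 0 := fun x => by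
    rw [Submodule.mem_torsionBy_iff, natCast_zsmul]
  have hVl : ∀ x : V, l • x = 0 := fun x => Subtype.ext ((hV x.1).1 x.2)
  have hc : Nat.card V = l ^ b := by
    rw [← hcard]
    exact Nat.card_congr (Equiv.subtypeEquivRight fun x => hV x)
  obtain ⟨β, hβ1, hβ2⟩ := @basis_of_card l b _ V _ (AddCommGroup.zmodModule hVl) hc
  let e : ℕ → Fin b → A := fun m i => Nat.rec (motive := fun _ => A) 0
    (fun j x => if j = 0 then (β i).1 else r x) m
  have e0 : ∀ i, e 0 i = 0 := fun i => rfl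
  have e1 : ∀ i, e 1 i = (β i).1 := fun i => if_pos rfl
  have e2 : ∀ m i, e (m + 2) i = r (e (m + 1) i) := fun m i => if_neg (Nat.succ_ne_zero m)
  have hsum : ∀ a : Fin b → ℤ, Fintype.linearCombination ℤ (e 1) a = (∑ i, a i • β i : V).1 := fun a => by
    rw [Fintype.linearCombination_apply, AddSubmonoidClass.coe_finsetSum]
    refine Finset.sum_congr rfl fun i _ => ?_
    rw [e1]
    rfl
  refine ⟨⟨e, e0, ?_, ?_, ?_⟩⟩
  · intro m i
    cases m with
    | zero =>
      rw [e0]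
      change l • e 1 i = 0
      rw [e1]
      exact (hV _).1 (β i).2
    | succ m =>
      change l • e (m + 2) i = _
      rw [e2, hr]
  · intro a ha i
    rw [hsum] at ha
    exact hβ1 a (Subtype.ext ha) i
  · intro x hx
    obtain ⟨a, ha⟩ := hβ2 ⟨x, (hV x).2 hx⟩
    refine ⟨a, ?_⟩
    rw [hsum, ha]

end

variable {A B : Type*} [AddCommGroup A] [AddCommGroup B] {l b : ℕ}

/-- The comparison of `l ^ m`-torsion. -/
theorem exists_phi_one (E : Roots l b A) (F : Roots l b B) (m : ℕ) :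
    ∃ φ : Submodule.torsionBy ℤ A ((l ^ m : ℕ) : ℤ) →ₗ[ℤ] B,
      ∀ (a : Fin b → ℤ) (h : E.psi m a ∈ Submodule.torsionBy ℤ A ((l ^ m : ℕ) : ℤ)),
        φ ⟨E.psi m a, h⟩ = F.psi m a := by
  have hm : ∀ a, E.psi m a ∈ Submodule.torsionBy ℤ A ((l ^ m : ℕ) : ℤ) := fun a => by
    rw [Submodule.mem_torsionBy_iff, natCast_zsmul]
    exact (E.pow_smul_eq_zero_iff m _).2 ⟨a, rfl⟩
  let T : (Fin b → ℤ) →ₗ[ℤ] Submodule.torsionBy ℤ A ((l ^ m : ℕ) : ℤ) := (E.psi m).codRestrict _ hm
  have hT : Function.Surjective T := by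
    rintro ⟨x, hx⟩
    rw [Submodule.mem_torsionBy_iff, natCast_zsmul] at hx
    obtain ⟨a, ha⟩ := (E.pow_smul_eq_zero_iff m x).1 hx
    exact ⟨a, Subtype.ext ha⟩
  have hker : LinearMap.ker T ≤ LinearMap.ker (F.psi m) := fun a ha => by
    rw [LinearMap.mem_ker] at ha ⊢
    exact (F.psi_eq_zero_iff m a).2 ((E.psi_eq_zero_iff m a).1 (congrArg Subtype.val ha))
  refine ⟨(Submodule.liftQ _ (F.psi m) hker) ∘ₗ (T.quotKerEquivOfSurjective hT).symm.toLinearMap, fun a h => ?_⟩
  have h1 : (T.quotKerEquivOfSurjective hT).symm ⟨E.psi m a, h⟩ = Submodule.Quotient.mk a := by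
    rw [LinearEquiv.symm_apply_eq]
    rfl
  rw [LinearMap.comp_apply, LinearEquiv.coe_coe, h1]
  rfl

theorem exists_phi [Fact l.Prime] (hA : ∀ x : A, ∃ y, l • y = x) (hB : ∀ x : B, ∃ y, l • y = x)
    (hcA : Nat.card {x : A // l • x = 0} = l ^ b) (hcB : Nat.card {x : B // l • x = 0} = l ^ b) :
    ∃ φ : ∀ m : ℕ, Submodule.torsionBy ℤ A ((l ^ m : ℕ) : ℤ) →ₗ[ℤ] B,
      (∀ m, Function.Injective (φ m)) ∧ (∀ m y, l ^ m • y = 0 ↔ ∃ x, φ m x = y) ∧
      ∀ (m : ℕ) (x : Submodule.torsionBy ℤ A ((l ^ (m + 1) : ℕ) : ℤ))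
        (h : l • (x : A) ∈ Submodule.torsionBy ℤ A ((l ^ m : ℕ) : ℤ)), φ m ⟨l • (x : A), h⟩ = l • φ (m + 1) x := by
  obtain ⟨E⟩ := exists_roots hA hcA
  obtain ⟨F⟩ := exists_roots hB hcB
  choose φ hφ using exists_phi_one E F
  have hmem : ∀ m (x : Submodule.torsionBy ℤ A ((l ^ m : ℕ) : ℤ)), ∃ a, E.psi m a = x.1 := fun m x => by
    refine (E.pow_smul_eq_zero_iff m _).1 ?_
    have := (Submodule.mem_torsionBy_iff _ _).1 x.2
    rwa [natCast_zsmul] at this
  refine ⟨φ, fun m => ?_, fun m y => ⟨fun h => ?_, ?_⟩, fun m x h => ?_⟩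
  · rw [← LinearMap.ker_eq_bot, LinearMap.ker_eq_bot']
    intro x hx
    obtain ⟨a, ha⟩ := hmem m x
    obtain ⟨x, hx'⟩ := x
    dsimp only at ha
    subst ha
    rw [hφ] at hx
    exact Subtype.ext ((E.psi_eq_zero_iff m a).2 ((F.psi_eq_zero_iff m a).1 hx))
  · obtain ⟨a, rfl⟩ := (F.pow_smul_eq_zero_iff m y).1 h
    exact ⟨⟨E.psi m a, by
      rw [Submodule.mem_torsionBy_iff, natCast_zsmul]
      exact (E.pow_smul_eq_zero_iff m _).2 ⟨a, rfl⟩⟩, hφ m a _⟩
  · rintro ⟨x, rfl⟩
    obtain ⟨a, ha⟩ := hmem m x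
    obtain ⟨x, hx'⟩ := x
    dsimp only at ha
    subst ha
    rw [hφ]
    exact (F.pow_smul_eq_zero_iff m _).2 ⟨a, rfl⟩
  · obtain ⟨a, ha⟩ := hmem (m + 1) x
    obtain ⟨x, hx'⟩ := x
    dsimp only at ha
    subst ha
    rw [hφ, F.smul_psi]
    have h1 : (⟨l • E.psi (m + 1) a, h⟩ : Submodule.torsionBy ℤ A ((l ^ m : ℕ) : ℤ)) =
        ⟨E.psi m a, by rw [← E.smul_psi]; exact h⟩ := Subtype.ext (E.smul_psi m a)
    rw [h1, hφ]

end K522.TorAlg
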