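import Groth.Agent.AbVar.K523.KerSq

/-!
# Squares of faithfully flat homomorphisms with the same kernel

`isPullback_of_ker`: a commutative square of group schemes in which the arrows `f`, `f'` are faithfully flat
homomorphisms and which induces an isomorphism of the kernels is cartesian.
-/

set_option autoImplicit false
universe u

open CategoryTheory MonoidalCategory CartesianMonoidalCategory MonObj GrpObj AlgebraicGeometry Limits

namespace K522.TorsSq

variable {S : Scheme.{u}} {X Y X' Y' K : Over S} [GrpObj X] [GrpObj Y] [GrpObj X'] [GrpObj Y']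

theorem isPullback_of_ker (f : X ⟶ Y) (f' : X' ⟶ Y') (g : X ⟶ X') (h : Y ⟶ Y') [IsMonHom f] [IsMonHom f']
    (hw : f ≫ h = g ≫ f') (i : K ⟶ X) (hi : AlgGrp.IsKernel i f) (hi' : AlgGrp.IsKernel (i ≫ g) f') [IsMonHom g]
    [Flat f.left] [Surjective f.left] [QuasiCompact f.left] : IsPullback f g h f' := by
  let P : Over S := Limits.pullback h f'
  let α : X ⟶ P := Limits.pullback.lift f g hw
  have hα1 : α ≫ Limits.pullback.fst h f' = f := Limits.pullback.lift_fst _ _ _
  have hα2 : α ≫ Limits.pullback.snd h f' = g := Limits.pullback.lift_snd _ _ _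
  have hP : IsPullback (Limits.pullback.fst h f') (Limits.pullback.snd h f') h f' := IsPullback.of_hasPullback _ _
  have hR : IsPullback (Limits.pullback.fst f (Limits.pullback.fst h f'))
      (Limits.pullback.snd f (Limits.pullback.fst h f')) f (Limits.pullback.fst h f') := IsPullback.of_hasPullback _ _
  -- the outer square
  have h1 := hR.flip.paste_horiz hP.flip
  -- the kernel pairs
  have k1 : IsPullback (fst X K) (fst X K * (snd X K ≫ i)) f f := K523.KerSq.isPullback_ker i f hi
  have k2 : IsPullback (fst X' K) (fst X' K * (snd X' K ≫ i ≫ g)) f' f' := K523.KerSq.isPullback_ker (i ≫ g) f' hi'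
  have k3 : IsPullback (fst X K) (g ▷ K) g (fst X' K) := by
    refine ⟨⟨by simp⟩, ⟨Limits.PullbackCone.IsLimit.mk _ (fun s => lift s.fst (s.snd ≫ snd X' K)) ?_ ?_ ?_⟩⟩
    · intro s
      simp
    · intro s
      apply CartesianMonoidalCategory.hom_ext
      · simp [s.condition]
      · simp
    · intro s m h1 h2
      apply CartesianMonoidalCategory.hom_ext
      · simp [h1]
      · simp [← h2]
  have k4 : IsPullback (fst X K) ((g ▷ K) ≫ (fst X' K * (snd X' K ≫ i ≫ g))) (g ≫ f') f' := k3.paste_vert k2
  have e1 : (g ▷ K) ≫ (fst X' K * (snd X' K ≫ i ≫ g)) = (fst X K * (snd X K ≫ i)) ≫ g := by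
    rw [MonObj.comp_mul, MonObj.mul_comp]
    simp
  rw [e1, ← hw] at k4
  let ε : X ⊗ K ≅ Limits.pullback f (Limits.pullback.fst h f') := k4.isoIsPullback _ _ h1.flip
  have hε1 : ε.hom ≫ Limits.pullback.fst f (Limits.pullback.fst h f') = fst X K := k4.isoIsPullback_hom_fst _ _ h1.flip
  have hε2 : ε.hom ≫ Limits.pullback.snd f (Limits.pullback.fst h f') ≫ Limits.pullback.snd h f' =
      (fst X K * (snd X K ≫ i)) ≫ g := k4.isoIsPullback_hom_snd _ _ h1.flip
  have h3 : IsPullback ε.hom (fst X K * (snd X K ≫ i)) (Limits.pullback.snd f (Limits.pullback.fst h f')) α := by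
    refine IsPullback.of_right (h₁₂ := Limits.pullback.fst f (Limits.pullback.fst h f'))
      (v₁₃ := f) (h₂₂ := Limits.pullback.fst h f') ?_ ?_ hR
    · rw [hε1, hα1]
      exact k1
    · apply Limits.pullback.hom_ext
      · rw [Category.assoc, ← Limits.pullback.condition, ← Category.assoc, hε1, Category.assoc, hα1, k1.w]
      · rw [Category.assoc, Category.assoc, hα2, hε2]
  have h4 := h3.map (Over.forget S)
  have h5 : (@Surjective ⊓ @Flat ⊓ @QuasiCompact : MorphismProperty Scheme.{u})
      (Limits.pullback.snd f (Limits.pullback.fst h f')).left :=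
    MorphismProperty.of_isPullback (hR.map (Over.forget S))
      ⟨⟨inferInstanceAs (Surjective f.left), inferInstanceAs (Flat f.left)⟩, inferInstanceAs (QuasiCompact f.left)⟩
  have h6 : IsIso α.left := MorphismProperty.DescendsAlong.of_isPullback
    (P := MorphismProperty.isomorphisms Scheme.{u}) h4 h5
      (inferInstanceAs (IsIso ((Over.forget S).map ε.hom)))
  have h6' : IsIso ((Over.forget S).map α) := h6
  have h7 : IsIso α := isIso_of_reflects_iso α (Over.forget S)
  exact IsPullback.of_iso hP (asIso α).symm (Iso.refl _) (Iso.refl _) (Iso.refl _)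
    (by simp [← hα1]) (by simp [← hα2]) (by simp) (by simp)

end K522.TorsSq
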