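import Groth.Agent.EtAdic.K522.Level
import Groth.Agent.EtAdic.K522.TorAlg

/-!
# The tower of the quotients of `G × G'` by the graphs of isomorphisms of the `l ^ m`-torsion

`k` algebraically closed, `l` a prime number different from the characteristic; `G`, `G'` commutative group
varieties with the same number of `l`-torsion points.
-/

set_option autoImplicit false
universe u

open CategoryTheory MonoidalCategory CartesianMonoidalCategory MonObj GrpObj AlgebraicGeometry Limits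

noncomputable section

namespace K522.Tower

open K530.ConstGrp K530.ConstKer K522.TorsSq Groth.Agent.Books.AlgPts K522.Level K522.TorAlg

variable {k : Type u} [Field k]

local notation "𝕊" => Spec (CommRingCat.of k)

section

variable {G G' : Over (Spec (CommRingCat.of k))} [GrpObj G] [GrpObj G'] [IsCommMonObj G] [IsCommMonObj G']

omit [GrpObj G'] [IsCommMonObj G] [IsCommMonObj G'] in
theorem pw_comp_pw (l n : ℕ) : pw G l ≫ pw G n = pw G (l * n) := by
  rw [comp_pw, ← pow_mul]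

/-- The transition morphism. -/
theorem exists_tr {M₁ M : Type u} [CommGroup M₁] [CommGroup M] (α₁ : M₁ →* Pt G) (β₁ : M₁ →* Pt G') (α : M →* Pt G)
    (β : M →* Pt G') (π : M₁ → M) (l : ℕ) (hα : ∀ x, α (π x) = (α₁ x) ^ l) (hβ : ∀ x, β (π x) = (β₁ x) ^ l) {n₁ n : ℕ}
    (L₁ : Lvl G G' (lift (desc (fun m => α₁ m)) (desc (fun m => β₁ m)) : cst 𝕊 M₁ ⟶ G ⊗ G') n₁)
    (L : Lvl G G' (lift (desc (fun m => α m)) (desc (fun m => β m)) : cst 𝕊 M ⟶ G ⊗ G') n) (hn : n₁ = l * n) :
    ∃ tr : L₁.E ⟶ L.E, L₁.s ≫ tr = (pw G l ⊗ₘ pw G' l) ≫ L.s ∧ tr ≫ L.p = L₁.p ∧ tr ≫ L.p' = L₁.p' := by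
  letI := L₁.grp
  letI := L.grp
  have := L₁.hs
  have := L.hs
  have := L₁.flat
  have := L₁.surj
  have := L₁.lfp
  have h1 : (lift (desc (fun m => α₁ m)) (desc (fun m => β₁ m)) : cst 𝕊 M₁ ⟶ G ⊗ G') ≫ (pw G l ⊗ₘ pw G' l) =
      desc (fun m => sec 𝕊 (π m)) ≫ (lift (desc (fun m => α m)) (desc (fun m => β m)) : cst 𝕊 M ⟶ G ⊗ G') := by
    refine hom_ext' fun m => ?_
    rw [← Category.assoc, ← Category.assoc, sec_desc, comp_lift, comp_lift, sec_desc, sec_desc, sec_desc, sec_desc,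
      lift_map, comp_pw, comp_pw, hα, hβ]
  have h2 : (lift (desc (fun m => α₁ m)) (desc (fun m => β₁ m)) : cst 𝕊 M₁ ⟶ G ⊗ G') ≫
      ((pw G l ⊗ₘ pw G' l) ≫ L.s) = 1 := by
    rw [← Category.assoc, h1, Category.assoc, L.ker.w, ← Category.assoc,
      toUnit_unique (desc (fun m => sec 𝕊 (π m)) ≫ toUnit _) (toUnit _), ← Hom.one_def]
  obtain ⟨tr, -, ht⟩ := K523.KerSq.exists_desc_hom _ L₁.s L₁.ker ((pw G l ⊗ₘ pw G' l) ≫ L.s) h2
  have hep : Epi L₁.s := epi_of_flat L₁.s
  refine ⟨tr, ht, ?_, ?_⟩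
  · rw [← cancel_epi L₁.s, ← Category.assoc, ht, Category.assoc, L.sq.w, L₁.sq.w, ← Category.assoc, tensorHom_fst,
      Category.assoc, pw_comp_pw, hn]
  · rw [← cancel_epi L₁.s, ← Category.assoc, ht, Category.assoc, L.sq'.w, L₁.sq'.w, ← Category.assoc, tensorHom_snd,
      Category.assoc, pw_comp_pw, hn]

/-- Divisibility of the points. -/
theorem exists_pow_eq [IsAlgClosed k] [LocallyOfFiniteType G.hom] [ConnectedSpace G.left] (l : ℕ) (hl : (l : k) ≠ 0)
    (x : Pt G) : ∃ y : Pt G, y ^ l = x := by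
  have h1 : Surjective (pw G l).left := K809.NeutralN.surjective_pow G l hl
  obtain ⟨y, hy⟩ := exists_comp_eq_of_pt_mem_range (pw G l) x (h1.1 _)
  exact ⟨y, by rw [← comp_pw, hy]⟩

/-- Finiteness of the torsion. -/
theorem finite_tors [IsAlgClosed k] [LocallyOfFiniteType G.hom] [QuasiCompact G.hom] (n : ℕ) (hn : (n : k) ≠ 0) :
    Finite {x : Pt G // x ^ n = 1} := by
  have h1 : Etale (pw G n).left := K809.NeutralN.etale_pow G n hn
  have h2 : LocallyQuasiFinite (pw G n).left := locallyQuasiFinite_of_etale _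
  have h3 : IsLocallyNoetherian G.left := LocallyOfFiniteType.isLocallyNoetherian G.hom
  have h3' : CompactSpace G.left := QuasiCompact.compactSpace_of_compactSpace G.hom
  have h3'' : IsNoetherian G.left := ⟨⟩
  have h4 : QuasiCompact (pw G n).left := quasiCompact_of_noetherianSpace_source _
  have h5 := (pw G n).left.finite_preimage_singleton (pt (1 : Pt G))
  have h6 : Finite ((pw G n).left ⁻¹' {pt (1 : Pt G)} : Set G.left) := h5
  refine Finite.of_injective (fun x : {x : Pt G // x ^ n = 1} =>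
    (⟨pt x.1, ?_⟩ : ((pw G n).left ⁻¹' {pt (1 : Pt G)} : Set G.left))) ?_
  · have h7 : x.1 ≫ pw G n = 1 := by rw [comp_pw, x.2]
    rw [Set.mem_preimage, Set.mem_singleton_iff]
    exact congrArg (fun t : Pt G => pt t) h7
  · intro x y h
    exact Subtype.ext (pt_injective (congrArg Subtype.val h))

/-- The number of `l`-torsion points is a power of `l`. -/
theorem natCard_tors [IsAlgClosed k] [LocallyOfFiniteType G.hom] [QuasiCompact G.hom] (l : ℕ) [Fact l.Prime]
    (hl : (l : k) ≠ 0) : ∃ b : ℕ, Nat.card {x : Pt G // x ^ l = 1} = l ^ b := by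
  have h1 : Finite {x : Pt G // x ^ l = 1} := finite_tors l hl
  have h2 : Finite {x : Additive (Pt G) // l • x = 0} := h1
  exact natCard_torsion (Additive (Pt G))

/-- The tower. -/
theorem main_pair [IsAlgClosed k] [Smooth G.hom] [QuasiCompact G.hom] [ConnectedSpace G.left] [Smooth G'.hom]
    [QuasiCompact G'.hom] [ConnectedSpace G'.left] (l : ℕ) [Fact l.Prime] (hl : (l : k) ≠ 0) (b : ℕ)
    (hG : Nat.card {x : Pt G // x ^ l = 1} = l ^ b) (hG' : Nat.card {x : Pt G' // x ^ l = 1} = l ^ b) :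
    ∃ (E : ℕ → Over (Spec (CommRingCat.of k))) (tr : ∀ m, E (m + 1) ⟶ E m) (p : ∀ m, E m ⟶ G) (p' : ∀ m, E m ⟶ G')
      (s : ∀ m, G ⊗ G' ⟶ E m), (∀ m, tr m ≫ p m = p (m + 1)) ∧ (∀ m, tr m ≫ p' m = p' (m + 1)) ∧
      (∀ m, IsPullback (s m) (fst G G') (p m) ((𝟙 G) ^ (l ^ m))) ∧
      (∀ m, IsPullback (s m) (snd G G') (p' m) ((𝟙 G') ^ (l ^ m))) ∧
      (∀ m, s (m + 1) ≫ tr m = (((𝟙 G) ^ l) ⊗ₘ ((𝟙 G') ^ l)) ≫ s m) := by
  let A := Additive (Pt G)
  let B := Additive (Pt G')
  obtain ⟨φ, hφ1, hφ2, hφ3⟩ := exists_phi (A := A) (B := B) (l := l) (b := b)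
    (fun x => exists_pow_eq l hl x) (fun x => exists_pow_eq l hl x) hG hG'
  let M : ℕ → Type u := fun m => Multiplicative (Submodule.torsionBy ℤ A ((l ^ m : ℕ) : ℤ))
  let α : ∀ m, M m →* Pt G := fun m =>
    { toFun := fun x => (x.toAdd.1).toMul
      map_one' := rfl
      map_mul' := fun _ _ => rfl }
  let β : ∀ m, M m →* Pt G' := fun m =>
    { toFun := fun x => (φ m x.toAdd).toMul
      map_one' := by
        change (φ m 0).toMul = _
        rw [map_zero]
        rfl
      map_mul' := fun x y => by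
        change (φ m (x.toAdd + y.toAdd)).toMul = _
        rw [map_add]
        rfl }
  have hln : ∀ m : ℕ, ((l ^ m : ℕ) : k) ≠ 0 := fun m => by
    rw [Nat.cast_pow]
    exact pow_ne_zero _ hl
  have hα : ∀ m, Function.Injective (α m) := fun m x y h => Subtype.ext h
  have hβ : ∀ m, Function.Injective (β m) := fun m x y h => hφ1 m h
  have hrα : ∀ m (x : Pt G), x ^ (l ^ m) = 1 ↔ ∃ y, α m y = x := fun m x => by
    constructor
    · intro h
      refine ⟨Multiplicative.ofAdd ⟨Additive.ofMul x, ?_⟩, rfl⟩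
      rw [Submodule.mem_torsionBy_iff, natCast_zsmul]
      exact h
    · rintro ⟨y, rfl⟩
      have h := (Submodule.mem_torsionBy_iff _ _).1 y.toAdd.2
      rw [natCast_zsmul] at h
      exact h
  have hrβ : ∀ m (x : Pt G'), x ^ (l ^ m) = 1 ↔ ∃ y, β m y = x := fun m x => by
    have h := hφ2 m (Additive.ofMul x)
    exact h
  have hfin : ∀ m, Finite (M m) := fun m => by
    have h1 : Finite {x : Pt G // x ^ (l ^ m) = 1} := finite_tors (l ^ m) (hln m)
    refine Finite.of_injective (fun x : M m => (⟨α m x, (hrα m _).2 ⟨x, rfl⟩⟩ : {x : Pt G // x ^ (l ^ m) = 1})) ?_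
    intro x y h
    exact hα m (congrArg Subtype.val h)
  have hL := fun m => exists_lvl (l ^ m) (hln m) (α m) (β m) (hα m) (hβ m) (hrα m) (hrβ m)
  let L := fun m => (hL m).some
  have hmem : ∀ m (x : M (m + 1)), l • (x.toAdd.1) ∈ Submodule.torsionBy ℤ A ((l ^ m : ℕ) : ℤ) := fun m x => by
    rw [Submodule.mem_torsionBy_iff, natCast_zsmul, smul_smul, ← pow_succ]
    have h := (Submodule.mem_torsionBy_iff _ _).1 x.toAdd.2
    rwa [natCast_zsmul] at h
  let π : ∀ m, M (m + 1) → M m := fun m x => Multiplicative.ofAdd ⟨l • (x.toAdd.1), hmem m x⟩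
  have hT := fun m => exists_tr (α (m + 1)) (β (m + 1)) (α m) (β m) (π m) l (fun x => rfl)
    (fun x => hφ3 m x.toAdd (hmem m x)) (L (m + 1)) (L m) (pow_succ' l m)
  choose tr h1 h2 h3 using hT
  exact ⟨fun m => (L m).E, tr, fun m => (L m).p, fun m => (L m).p', fun m => (L m).s, h2, h3, fun m => (L m).sq,
    fun m => (L m).sq', h1⟩

end

end K522.Tower
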